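import Cfsg.Agent.WeakClosed.Check

import Cfsg.Prelude.Def_ChevB2
import Cfsg.Prelude.Def_ChevD4
import Cfsg.Prelude.Def_ChevE6
import Cfsg.Prelude.Def_ChevE7
import Cfsg.Prelude.Def_ChevE8
import Cfsg.Prelude.Def_ChevF4
import Cfsg.Prelude.Def_ChevG2

/-! Certificates for the seven data: for each positive root a pair whose commutator gives it. -/

set_option autoImplicit false
set_option maxRecDepth 100000

namespace Cfsg.Agent.WeakClosed

open Cfsg.Lie

/-- the pairs for `chevG2` -/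
def certG2 : List (ℕ × ℕ × ℕ) := [(0, 0, 0), (0, 0, 0), (1, 6, 7), (4, 7, 6), (3, 7, 6), (1, 6, 10)]

theorem radChk_G2 : radChk chevG2 certG2 = true := by decide +kernel

theorem sepChk_G2 : sepChk chevG2 true = true := by decide +kernel

/-- the pairs for `chevB2` -/
def certB2 : List (ℕ × ℕ × ℕ) := [(0, 0, 0), (0, 0, 0), (1, 4, 5), (2, 5, 4)]

theorem radChk_B2 : radChk chevB2 certB2 = true := by decide +kernel

theorem sepChk_B2 : sepChk chevB2 true = true := by decide +kernel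

/-- the pairs for `chevD4` -/
def certD4 : List (ℕ × ℕ × ℕ) := [(0, 0, 0), (0, 0, 0), (0, 0, 0), (1, 12, 14), (1, 13, 14), (1, 12, 16), (0, 0, 0), (1, 14, 18), (1, 12, 19), (1, 13, 19), (1, 12, 21), (1, 14, 22)]

theorem radChk_D4 : radChk chevD4 certD4 = true := by decide +kernel

theorem sepChk_D4 : sepChk chevD4 true = true := by decide +kernel

/-- the pairs for `chevF4` -/
def certF4 : List (ℕ × ℕ × ℕ) := [(0, 0, 0), (0, 0, 0), (1, 24, 25), (0, 0, 0), (1, 25, 27), (1, 24, 28), (2, 27, 25), (1, 24, 30), (1, 25, 31), (0, 0, 0), (1, 27, 33), (1, 25, 34), (1, 24, 35), (1, 27, 35), (1, 24, 37), (1, 25, 38), (1, 27, 39), (2, 33, 30), (1, 24, 41), (1, 25, 42), (1, 27, 43), (1, 30, 42), (1, 25, 45), (1, 24, 46)]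

theorem radChk_F4 : radChk chevF4 certF4 = true := by decide +kernel

theorem sepChk_F4 : sepChk chevF4 true = true := by decide +kernel

/-- the pairs for `chevE6` -/
def certE6 : List (ℕ × ℕ × ℕ) := [(0, 0, 0), (0, 0, 0), (1, 36, 37), (0, 0, 0), (1, 37, 39), (1, 36, 40), (0, 0, 0), (1, 39, 42), (1, 37, 43), (1, 36, 44), (0, 0, 0), (1, 39, 46), (1, 37, 47), (1, 36, 48), (1, 42, 47), (1, 37, 50), (1, 36, 51), (1, 39, 51), (1, 36, 53), (1, 37, 54), (0, 0, 0), (1, 42, 56), (1, 39, 57), (1, 37, 58), (1, 36, 59), (1, 46, 58), (1, 37, 61), (1, 36, 62), (1, 39, 62), (1, 36, 64), (1, 37, 65), (1, 42, 64), (1, 36, 67), (1, 37, 68), (1, 39, 69), (1, 46, 70)]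

theorem radChk_E6 : radChk chevE6 certE6 = true := by decide +kernel

theorem sepChk_E6 : sepChk chevE6 false = true := by decide +kernel

/-- the pairs for `chevE7` -/
def certE7 : List (ℕ × ℕ × ℕ) := [(0, 0, 0), (0, 0, 0), (1, 63, 64), (0, 0, 0), (1, 64, 66), (1, 63, 67), (0, 0, 0), (1, 66, 69), (1, 64, 70), (1, 63, 71), (0, 0, 0), (1, 69, 73), (1, 66, 74), (1, 64, 75), (1, 63, 76), (0, 0, 0), (1, 69, 78), (1, 66, 79), (1, 64, 80), (1, 63, 81), (1, 73, 79), (1, 66, 83), (1, 64, 84), (1, 63, 85), (1, 69, 84), (1, 64, 87), (1, 63, 88), (1, 66, 88), (1, 63, 90), (1, 64, 91), (0, 0, 0), (1, 73, 93), (1, 69, 94), (1, 66, 95), (1, 64, 96), (1, 63, 97), (1, 78, 95), (1, 66, 99), (1, 64, 100), (1, 63, 101), (1, 69, 100), (1, 64, 103), (1, 63, 104), (1, 66, 104), (1, 63, 106), (1, 64, 107), (1, 73, 103), (1, 64, 109), (1, 63, 110), (1, 66, 110), (1, 63, 112), (1, 64, 113), (1, 69, 112), (1, 63, 115), (1, 64, 116), (1, 66, 117), (1, 78, 115), (1, 63, 119), (1,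 64, 120), (1, 66, 121), (1, 69, 122), (1, 73, 123), (1, 93, 124)]

theorem radChk_E7 : radChk chevE7 certE7 = true := by decide +kernel

theorem sepChk_E7 : sepChk chevE7 false = true := by decide +kernel

/-- the pairs for `chevE8` -/
def certE8 : List (ℕ × ℕ × ℕ) := [(0, 0, 0), (0, 0, 0), (1, 120, 121), (0, 0, 0), (1, 121, 123), (1, 120, 124), (0, 0, 0), (1, 123, 126), (1, 121, 127), (1, 120, 128), (0, 0, 0), (1, 126, 130), (1, 123, 131), (1, 121, 132), (1, 120, 133), (0, 0, 0), (1, 130, 135), (1, 126, 136), (1, 123, 137), (1, 121, 138), (1, 120, 139), (0, 0, 0), (1, 130, 141), (1, 126, 142), (1, 123, 143), (1, 121, 144), (1, 120, 145), (1, 135, 142), (1, 126, 147), (1, 123, 148), (1, 121, 149), (1, 120, 150), (1, 130, 148), (1, 123, 152), (1, 121, 153), (1, 120, 154), (1, 126, 153), (1, 121, 156), (1, 120, 157), (1, 123, 157), (1, 120, 159), (1, 121, 160), (0, 0, 0), (1, 135, 162), (1, 130, 163), (1, 126, 164), (1, 123, 165), (1, 121, 166), (1, 120,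 167), (1, 141, 164), (1, 126, 169), (1, 123, 170), (1, 121, 171), (1, 120, 172), (1, 130, 170), (1, 123, 174), (1, 121, 175), (1, 120, 176), (1, 126, 175), (1, 121, 178), (1, 120, 179), (1, 123, 179), (1, 120, 181), (1, 121, 182), (1, 135, 174), (1, 123, 184), (1, 121, 185), (1, 120, 186), (1, 126, 185), (1, 121, 188), (1, 120, 189), (1, 123, 189), (1, 120, 191), (1, 121, 192), (1, 130, 188), (1, 121, 194), (1, 120, 195), (1, 123, 195), (1, 120, 197), (1, 121, 198), (1, 126, 197), (1, 120, 200), (1, 121, 201), (1, 123, 202), (1, 141, 194), (1, 121, 204), (1, 120, 205), (1, 123, 205), (1, 120, 207), (1, 121, 208), (1, 126, 207), (1, 120, 210), (1, 121, 211), (1, 123, 212), (1, 130, 210), (1, 120, 214), (1, 121, 215), (1, 123, 216), (1, 126, 217), (1, 135, 214), (1, 120, 219), (1, 121, 220), (1, 123, 221), (1, 126, 222), (1, 130, 223), (1, 141, 224), (1, 162, 219), (1, 120, 226), (1, 121, 227), (1, 123, 228), (1, 126, 229), (1, 130, 230), (1, 135, 231),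 (1, 141, 231), (1, 135, 233), (1, 130, 234), (1, 126, 235), (1, 123, 236), (1, 121, 237), (1, 120, 238)]

theorem radChk_E8 : radChk chevE8 certE8 = true := by decide +kernel

theorem sepChk_E8 : sepChk chevE8 false = true := by decide +kernel

end Cfsg.Agent.WeakClosed
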