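import Cfsg.Agent.Chev.Facts

/-!
Boolean checks used for weakly closed subgroups of the unipotent group.
-/

set_option autoImplicit false

namespace Cfsg.Agent.WeakClosed

open Cfsg.Lie Cfsg.Agent.Chev

variable (D : ChevalleyDatum)

/-- `r` is a fundamental root -/
def isSimpleB (r : ℕ) : Bool := (List.range D.rank).any fun i => decide (D.simple i = r)

/-- the coefficient `j` vanishes on `r` -/
def coefZ (r j : ℕ) : Bool := decide (coef D r j = 0)

/-- the commutator terms of `(a, b)` have the support of `a + b` and none is fundamental -/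
def suppChk (a b : ℕ) : Bool :=
  (D.commTerms a b).all fun c => !(isSimpleB D c.1) &&
    (List.range D.rank).all fun j => coefZ D c.1 j == (coefZ D a j && coefZ D b j)

/-- the shape of the commutator terms which lets one extract the root `r` -/
def shapeChk (r kind : ℕ) (L : List (ℕ × ℤ × ℕ × ℕ)) : Bool :=
  match kind, L with
  | 1, (k, c, i, j) :: rest => decide (k = r ∧ c.natAbs = 1 ∧ i = 1 ∧ j = 1) && rest.all fun d => decide (r < d.1)
  | 2, [(_, _, i, j), (k, c, i', j')] => decide (i = 1 ∧ j = 1 ∧ k = r ∧ c.natAbs = 1 ∧ i' = 2 ∧ j' = 1)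
  | _ + 3, [(_, _, i₁, j₁), (k₂, c₂, i₂, j₂), (k₃, c₃, i₃, j₃), (k₄, _, _, _)] =>
      decide (i₁ = 1 ∧ j₁ = 1 ∧ i₂ = 2 ∧ j₂ = 1 ∧ i₃ = 3 ∧ j₃ = 1 ∧ c₂.natAbs = 1 ∧ c₃.natAbs = 1 ∧
        (r = k₂ ∨ r = k₃) ∧ k₂ < k₃ ∧ k₃ < k₄)
  | _, _ => false

/-- the pair attached to the positive root `r` works -/
def rootChk (r : ℕ) (e : ℕ × ℕ × ℕ) : Bool :=
  isSimpleB D r || (decide (half D ≤ e.2.1 ∧ e.2.1 < D.nroots ∧ half D ≤ e.2.2 ∧ e.2.2 < D.nroots ∧ e.2.2 ≠ e.2.1) &&
    suppChk D e.2.1 e.2.2 && shapeChk r e.1 (D.commTerms e.2.1 e.2.2))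

/-- all the pairs work -/
def radChk (l : List (ℕ × ℕ × ℕ)) : Bool :=
  (List.range (half D)).all fun k => rootChk D (half D + k) (l.getD k (0, 0, 0))

/-- one pair of fundamental roots is separated by the torus -/
def pairSep (big : Bool) (i j : ℕ) : Bool :=
  let A : ℕ → ℕ → ℤ := fun k l => D.cartan k (D.simple l)
  ((List.range D.rank).any fun k =>
    (decide (A k j = 0) && decide ((A k i).natAbs = 1)) || (decide (A k i = 0) && decide ((A k j).natAbs = 1)) ||
    (big && ((decide (A k j = 0) && decide ((A k i).natAbs = 2)) || (decide (A k i = 0) && decide ((A k j).natAbs = 2))))) ||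
  (big && (decide (A i j * A j i = 2) || decide (A i j * A j i = 3)))

/-- all pairs of fundamental roots are separated; `big` allows the criteria needing four field elements -/
def sepChk (big : Bool) : Bool :=
  (List.range D.rank).all fun i => (List.range D.rank).all fun j => decide (i = j) || pairSep D big i j

end Cfsg.Agent.WeakClosed
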