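import Cfsg.Agent.Chev.Parabolic
import Cfsg.Agent.WeakClosed.Check

/-!
The non-fundamental root subgroups of `U_J` lie in `[U_J, U]`.
-/

set_option autoImplicit false

namespace Cfsg.Agent.WeakClosed

open Cfsg.Lie Cfsg.Agent.Chev
open scoped MatrixGroups commutatorElement

universe u

variable {D : ChevalleyDatum}

/-- `r` has a non-zero coefficient outside `J` -/
def InT (D : ChevalleyDatum) (J : Set ℕ) (r : ℕ) : Prop := ∃ j < D.rank, j ∉ J ∧ coef D r j ≠ 0

theorem inT_of_not_inRootSub {J : Set ℕ} {r : ℕ} (hr : r < D.nroots) (h : ¬ D.InRootSub J r) : InT D J r := by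
  by_contra hc
  exact h ⟨hr, fun i hi hiJ => not_not.1 fun hne => hc ⟨i, hi, hiJ, hne⟩⟩

theorem not_inRootSub_of_inT {J : Set ℕ} {r : ℕ} (h : InT D J r) : ¬ D.InRootSub J r := fun hs => by
  obtain ⟨j, hj, hjJ, hne⟩ := h
  exact hne (hs.2 j hj hjJ)

variable {F : Type u} [Field F] (hF : Facts.{u} D) (J : Set ℕ)

/-- `[U_J, U]` -/
def kerSub (D : ChevalleyDatum) (F : Type u) [Field F] (J : Set ℕ) : Subgroup (GL D.Idx F) :=
  ⁅D.unipotentRadical F J, D.posUnipotent F⁆

theorem radical_le_posUnipotent : D.unipotentRadical F J ≤ D.posUnipotent F :=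
  (Subgroup.closure_le _).2 fun _ ⟨r, t, hr, _, e⟩ => Subgroup.subset_closure ⟨r, t, hr, e⟩

include hF

theorem radical_root_mem {r : ℕ} (hr : r < D.nroots) (hp : half D ≤ r) (h : InT D J r) (t : F) :
    xG hF r t ∈ D.unipotentRadical F J :=
  Subgroup.subset_closure ⟨r, t, (hF.posRoot_iff r hr).2 hp, not_inRootSub_of_inT h, rfl⟩

theorem posUnipotent_le_normalizer_radical :
    D.posUnipotent F ≤ Subgroup.normalizer (D.unipotentRadical F J : Set (GL D.Idx F)) :=
  le_trans (le_trans le_sup_left (borel_le_parabolic J)) (parabolic_le_normalizer hF J)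

theorem kerSub_le_radical : kerSub D F J ≤ D.unipotentRadical F J := by
  rw [kerSub, Subgroup.commutator_le]
  intro a ha b hb
  have := (Subgroup.mem_normalizer_iff.1 (posUnipotent_le_normalizer_radical hF J hb) a⁻¹).1 (inv_mem ha)
  rw [commutatorElement_def, show a * b * a⁻¹ * b⁻¹ = a * (b * a⁻¹ * b⁻¹) by group]
  exact mul_mem ha this

theorem conj_mem_kerSub {b k : GL D.Idx F} (hb : b ∈ Subgroup.normalizer (D.posUnipotent F : Set (GL D.Idx F)))
    (hb' : b ∈ Subgroup.normalizer (D.unipotentRadical F J : Set (GL D.Idx F))) (hk : k ∈ kerSub D F J) :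
    b * k * b⁻¹ ∈ kerSub D F J := by
  have hle : kerSub D F J ≤ (kerSub D F J).comap (MulAut.conj b).toMonoidHom := by
    refine Subgroup.commutator_le.2 fun x hx y hy => ?_
    show b * ⁅x, y⁆ * b⁻¹ ∈ kerSub D F J
    rw [show b * ⁅x, y⁆ * b⁻¹ = ⁅b * x * b⁻¹, b * y * b⁻¹⁆ by simp only [commutatorElement_def]; group]
    exact Subgroup.commutator_mem_commutator ((Subgroup.mem_normalizer_iff.1 hb' x).1 hx)
      ((Subgroup.mem_normalizer_iff.1 hb y).1 hy)
  exact hle hk

theorem conj_xG_mem_kerSub {r : ℕ} (hr : r < D.nroots) (hp : half D ≤ r) (t : F) {k : GL D.Idx F}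
    (hk : k ∈ kerSub D F J) : xG hF r t * k * (xG hF r t)⁻¹ ∈ kerSub D F J :=
  conj_mem_kerSub hF J (Subgroup.le_normalizer (mem_posUnipotent_of hF hr hp t))
    (posUnipotent_le_normalizer_radical hF J (mem_posUnipotent_of hF hr hp t)) hk

/-- cancel an outer root element -/
theorem peel {r : ℕ} (hr : r < D.nroots) (hp : half D ≤ r) {α : F} {y : GL D.Idx F}
    (h : xG hF r α * y * xG hF r (-α) ∈ kerSub D F J) : y ∈ kerSub D F J := by
  have := conj_xG_mem_kerSub hF J hr hp (-α) h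
  rw [← xG_inv, inv_inv] at this
  simpa [mul_assoc] using this

theorem commWord_mem {a b : ℕ} (ha : a < D.nroots) (hb : b < D.nroots) (hpa : half D ≤ a) (hpb : half D ≤ b)
    (hab : b ≠ a) (hT : InT D J a ∨ InT D J b) (t v : F) : wordG hF (D.commWord F a b t v) ∈ kerSub D F J := by
  have hne : b ≠ D.neg a := by
    have := (neg_lt_half_iff hF ha).2 hpa
    omega
  have e : wordG hF (D.commWord F a b t v) = ⁅(xG hF b v)⁻¹, (xG hF a t)⁻¹⁆ := by
    rw [commutatorElement_def, inv_inv, inv_inv, mul_assoc ((xG hF b v)⁻¹ * (xG hF a t)⁻¹),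
      xG_comm hF ha hb hab hne t v]
    group
  rw [e]
  rcases hT with h | h
  · rw [← commutatorElement_inv]
    exact inv_mem (Subgroup.commutator_mem_commutator (inv_mem (radical_root_mem hF J ha hpa h t))
      (inv_mem (mem_posUnipotent_of hF hb hpb v)))
  · exact Subgroup.commutator_mem_commutator (inv_mem (radical_root_mem hF J hb hpb h v))
      (inv_mem (mem_posUnipotent_of hF ha hpa t))

omit hF in
theorem cast_unit {c : ℤ} (hc : c.natAbs = 1) : (c : F) * c = 1 := by
  rcases Int.natAbs_eq c with h | h <;> rw [h, hc] <;> simp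

theorem root_mem_kerSub [Fintype F] {l : List (ℕ × ℕ × ℕ)} (hchk : radChk D l = true)
    (hq : 3 ≤ Fintype.card F)
    (hq4 : (∃ r kind, (l.getD r (0, 0, 0)).1 = kind + 3) → 4 ≤ Fintype.card F) :
    ∀ r, r < D.nroots → half D ≤ r → InT D J r → isSimpleB D r = false →
      ∀ t : F, xG hF r t ∈ kerSub D F J := by
  classical
  suffices h : ∀ d r, D.nroots - r = d → r < D.nroots → half D ≤ r → InT D J r → isSimpleB D r = false →
      ∀ t : F, xG hF r t ∈ kerSub D F J from fun r => h _ r rfl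
  intro d
  induction d using Nat.strong_induction_on with
  | _ d ih =>
  intro r hd hr hp hT hs w
  have hev := hF.nroots_even
  have hroot := (List.all_eq_true.1 hchk) (r - half D) (List.mem_range.2 (by omega))
  rw [show half D + (r - half D) = r by omega] at hroot
  have hq4' : ∀ kind, (l.getD (r - half D) (0, 0, 0)).1 = kind + 3 → 4 ≤ Fintype.card F :=
    fun kind h => hq4 ⟨_, kind, h⟩
  revert hroot hq4'
  generalize l.getD (r - half D) (0, 0, 0) = e
  obtain ⟨kind, a, b⟩ := e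
  intro hroot hq4'
  simp only [rootChk, hs, Bool.false_or, Bool.and_eq_true, decide_eq_true_eq] at hroot
  obtain ⟨⟨⟨hpa, ha, hpb, hb, hba⟩, hsupp⟩, hshape⟩ := hroot
  simp only [suppChk, List.all_eq_true, Bool.and_eq_true, Bool.not_eq_true', List.mem_range, beq_iff_eq] at hsupp
  -- every term is a positive root above `a` and `b`, of the same support
  have hterm : ∀ c ∈ D.commTerms a b, half D ≤ c.1 ∧ c.1 < D.nroots ∧ isSimpleB D c.1 = false ∧
      (InT D J c.1 ↔ InT D J a ∨ InT D J b) := by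
    intro c hc
    refine ⟨le_trans hpa (hF.comm_pos a b ha hb hpa hpb c hc).1.le, hF.comm_lt a b ha hb c hc, (hsupp c hc).1, ?_⟩
    have key : ∀ j, j < D.rank → (coef D c.1 j = 0 ↔ coef D a j = 0 ∧ coef D b j = 0) := fun j hj => by
      have := (hsupp c hc).2 j hj
      simp only [coefZ, ← Bool.decide_and, decide_eq_decide] at this
      exact this
    constructor
    · rintro ⟨j, hj, hjJ, hne⟩
      rw [Ne, key j hj, not_and_or] at hne
      exact hne.imp (fun h => ⟨j, hj, hjJ, h⟩) fun h => ⟨j, hj, hjJ, h⟩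
    · rintro (⟨j, hj, hjJ, hne⟩ | ⟨j, hj, hjJ, hne⟩) <;> refine ⟨j, hj, hjJ, fun h => hne ?_⟩
      exacts [((key j hj).1 h).1, ((key j hj).1 h).2]
  have hTab : InT D J a ∨ InT D J b := by
    have hmem : ∃ c ∈ D.commTerms a b, c.1 = r := by
      unfold shapeChk at hshape
      split at hshape
      · next _ _ k c i j rest hL =>
        simp only [Bool.and_eq_true, decide_eq_true_eq] at hshape
        exact ⟨(k, c, i, j), by rw [hL]; simp, hshape.1.1⟩
      · next _ _ m c₁ i j k c i' j' hL =>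
        simp only [decide_eq_true_eq] at hshape
        exact ⟨(k, c, i', j'), by rw [hL]; simp, hshape.2.2.1⟩
      · next _ kind k₁ c₁ i₁ j₁ k₂ c₂ i₂ j₂ k₃ c₃ i₃ j₃ k₄ c₄ i₄ j₄ hL =>
        simp only [decide_eq_true_eq] at hshape
        rcases hshape.2.2.2.2.2.2.2.2.1 with h | h
        · exact ⟨(k₂, c₂, i₂, j₂), by rw [hL]; simp, h.symm⟩
        · exact ⟨(k₃, c₃, i₃, j₃), by rw [hL]; simp, h.symm⟩
      · simp at hshape
    obtain ⟨c, hc, rfl⟩ := hmem
    exact (hterm c hc).2.2.2.1 hT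
  have hword := fun t v => commWord_mem (F := F) hF J ha hb hpa hpb hba hTab t v
  have hhigh : ∀ c ∈ D.commTerms a b, r < c.1 → ∀ t : F, xG hF c.1 t ∈ kerSub D F J := fun c hc hlt => by
    obtain ⟨h1, h2, h3, h4⟩ := hterm c hc
    exact ih (D.nroots - c.1) (by omega) c.1 rfl h2 h1 (h4.2 hTab) h3
  unfold shapeChk at hshape
  split at hshape
  · next _ _ k c i j rest hL =>
    simp only [Bool.and_eq_true, decide_eq_true_eq, List.all_eq_true] at hshape
    obtain ⟨⟨rfl, hc, rfl, rfl⟩, hrest⟩ := hshape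
    have h := hword (-((c : F) * w)) 1
    rw [ChevalleyDatum.commWord, hL, List.map_cons, wordG_cons] at h
    have hr' : wordG hF (rest.map fun d => (d.1, (d.2.1 : F) * (-(-((c : F) * w))) ^ d.2.2.1 * (1 : F) ^ d.2.2.2)) ∈
        kerSub D F J := wordG_mem hF fun p hp => by
      obtain ⟨d, hd', rfl⟩ := List.mem_map.1 hp
      exact hhigh d (by rw [hL]; exact List.mem_cons_of_mem _ hd') (hrest d hd') _
    have h1 := (Subgroup.mul_mem_cancel_right _ hr').1 h
    simpa [← mul_assoc, cast_unit hc] using h1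
  · next _ _ m c₁ i j k c i' j' hL =>
    simp only [decide_eq_true_eq] at hshape
    obtain ⟨rfl, rfl, rfl, hc, rfl, rfl⟩ := hshape
    obtain ⟨hm1, hm2, -, -⟩ := hterm (m, c₁, 1, 1) (by rw [hL]; simp)
    obtain ⟨t, ht0, ht1⟩ : ∃ t : F, t ≠ 0 ∧ t ≠ 1 := by
      by_contra hno; push Not at hno
      have : (Finset.univ : Finset F) ⊆ {0, 1} := fun d _ => by
        by_cases hd : d = 0
        · simp [hd]
        · simp [hno d hd]
      have := (Finset.card_le_card this).trans Finset.card_le_two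
      rw [Finset.card_univ] at this
      omega
    have hne : t ^ 2 - t ≠ 0 := by
      rw [show t ^ 2 - t = t * (t - 1) by ring]; exact mul_ne_zero ht0 (sub_ne_zero.2 ht1)
    set v : F := (c : F) * w / (t ^ 2 - t) with hv
    have hvv : (c : F) * (v * (t ^ 2 - t)) = w := by rw [hv, div_mul_cancel₀ _ hne, ← mul_assoc, cast_unit hc, one_mul]
    have h1 := hword t v
    have h2 := hword 1 (t * v)
    rw [ChevalleyDatum.commWord, hL] at h1 h2
    simp only [List.map_cons, List.map_nil, wordG_cons, pow_one, show wordG hF ([] : List (ℕ × F)) = 1 from rfl,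
      mul_one] at h1 h2
    have h3 := mul_mem h1 (inv_mem h2)
    refine peel hF J hm2 hm1 (α := (c₁ : F) * -t * v) ?_
    convert h3 using 1
    rw [mul_inv_rev, xG_inv, xG_inv, ← hvv, show (c : F) * (v * (t ^ 2 - t)) = c * (-t) ^ 2 * v + -(c * (-1) ^ 2 * (t * v)) by ring,
      show -((c₁ : F) * -t * v) = -((c₁ : F) * -1 * (t * v)) by ring, ← xG_mul]
    group
  · next _ kind k₁ c₁ i₁ j₁ k₂ c₂ i₂ j₂ k₃ c₃ i₃ j₃ k₄ c₄ i₄ j₄ hL =>
    simp only [decide_eq_true_eq] at hshape
    obtain ⟨rfl, rfl, rfl, rfl, rfl, rfl, hc₂, hc₃, hrk, h23, h34⟩ := hshape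
    obtain ⟨hp1, hn1, -, -⟩ := hterm (k₁, c₁, 1, 1) (by rw [hL]; simp)
    obtain ⟨hp2, hn2, -, -⟩ := hterm (k₂, c₂, 2, 1) (by rw [hL]; simp)
    obtain ⟨hp3, hn3, -, -⟩ := hterm (k₃, c₃, 3, 1) (by rw [hL]; simp)
    obtain ⟨hp4, hn4, -, -⟩ := hterm (k₄, c₄, i₄, j₄) (by rw [hL]; simp)
    have hq4 := hq4' kind rfl
    have h4 : ∀ x, xG hF k₄ x ∈ kerSub D F J := hhigh (k₄, c₄, i₄, j₄) (by rw [hL]; simp) (by
      show r < k₄; rcases hrk with rfl | rfl <;> omega)
    have hG : ∀ t v : F, xG hF k₂ ((c₂ : F) * (v * (t ^ 2 - t))) * xG hF k₃ (-((c₃ : F) * (v * (t ^ 3 - t)))) ∈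
        kerSub D F J := by
      intro t v
      have h1 := hword t v
      have h2 := hword 1 (t * v)
      rw [ChevalleyDatum.commWord, hL] at h1 h2
      simp only [List.map_cons, List.map_nil, wordG_cons, pow_one, show wordG hF ([] : List (ℕ × F)) = 1 from rfl,
        mul_one] at h1 h2
      set e1 := xG hF k₁ ((c₁ : F) * -t * v) with he1
      set β := (c₂ : F) * (-t) ^ 2 * v with hβ
      set γ := (c₃ : F) * (-t) ^ 3 * v with hγ
      set β' := (c₂ : F) * (-1) ^ 2 * (t * v) with hβ'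
      set γ' := (c₃ : F) * (-1) ^ 3 * (t * v) with hγ'
      set δ := (c₄ : F) * (-t) ^ i₄ * v ^ j₄ with hδ
      set δ' := (c₄ : F) * (-1) ^ i₄ * (t * v) ^ j₄ with hδ'
      have h3 := mul_mem h1 (inv_mem h2)
      have hP : xG hF k₂ β * (xG hF k₃ γ * xG hF k₄ (δ + -δ') * xG hF k₃ (-γ')) * xG hF k₂ (-β') ∈ kerSub D F J := by
        refine peel hF J hn1 hp1 (α := (c₁ : F) * -t * v) ?_
        convert h3 using 1
        rw [mul_inv_rev, mul_inv_rev, mul_inv_rev, xG_inv, xG_inv, xG_inv, xG_inv,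
          show -((c₁ : F) * -t * v) = -((c₁ : F) * -1 * (t * v)) by ring, ← xG_mul hF k₄, he1]
        group
      have hM : xG hF k₂ β * (xG hF k₃ γ * xG hF k₄ (δ + -δ') * (xG hF k₃ γ)⁻¹) * (xG hF k₂ β)⁻¹ ∈ kerSub D F J :=
        conj_xG_mem_kerSub hF J hn2 hp2 _ (conj_xG_mem_kerSub hF J hn3 hp3 _ (h4 _))
      have hQ := mul_mem (inv_mem hM) hP
      have hQ' := conj_xG_mem_kerSub hF J hn2 hp2 (-β') hQ
      convert hQ' using 1
      rw [show (c₂ : F) * (v * (t ^ 2 - t)) = -β' + β by rw [hβ, hβ']; ring,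
        show -((c₃ : F) * (v * (t ^ 3 - t))) = γ + -γ' by rw [hγ, hγ']; ring, ← xG_mul hF k₂, ← xG_mul hF k₃]
      group
    have h3 : ∀ x, xG hF k₃ x ∈ kerSub D F J := by
      intro x
      obtain ⟨t, s, ht0, ht1, hs0, hs1, hts⟩ : ∃ t s : F, t ≠ 0 ∧ t ≠ 1 ∧ s ≠ 0 ∧ s ≠ 1 ∧ t ≠ s := by
        obtain ⟨t, -, ht⟩ := Finset.exists_mem_notMem_of_card_lt_card (s := ({0, 1} : Finset F)) (t := Finset.univ)
          (by rw [Finset.card_univ]; have := Finset.card_le_two (a := (0 : F)) (b := 1); omega)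
        obtain ⟨s, -, hs⟩ := Finset.exists_mem_notMem_of_card_lt_card (s := ({0, 1, t} : Finset F)) (t := Finset.univ)
          (by rw [Finset.card_univ]; have := Finset.card_le_three (a := (0 : F)) (b := 1) (c := t); omega)
        simp only [Finset.mem_insert, Finset.mem_singleton, not_or] at ht hs
        exact ⟨t, s, ht.1, ht.2, hs.1, hs.2.1, fun h => hs.2.2 h.symm⟩
      have hnt : t ^ 2 - t ≠ 0 := by
        rw [show t ^ 2 - t = t * (t - 1) by ring]; exact mul_ne_zero ht0 (sub_ne_zero.2 ht1)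
      have hns : s ^ 2 - s ≠ 0 := by
        rw [show s ^ 2 - s = s * (s - 1) by ring]; exact mul_ne_zero hs0 (sub_ne_zero.2 hs1)
      set v : F := -((c₃ : F) * x) / ((t ^ 2 - t) * (t - s)) with hv
      set v' : F := v * (t ^ 2 - t) / (s ^ 2 - s) with hv'
      have e2 : v' * (s ^ 2 - s) = v * (t ^ 2 - t) := by rw [hv', div_mul_cancel₀ _ hns]
      have e3 : v * ((t ^ 2 - t) * (t - s)) = -((c₃ : F) * x) := by
        rw [hv, div_mul_cancel₀ _ (mul_ne_zero hnt (sub_ne_zero.2 hts))]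
      have h := mul_mem (hG t v) (inv_mem (hG s v'))
      refine peel hF J hn2 hp2 (α := (c₂ : F) * (v * (t ^ 2 - t))) ?_
      convert h using 1
      have e4 : x = -((c₃ : F) * (v * (t ^ 3 - t))) + -(-((c₃ : F) * (v' * (s ^ 3 - s)))) := by
        have := cast_unit (F := F) hc₃
        linear_combination (c₃ : F) * e3 - (c₃ : F) * (s + 1) * e2 - x * this
      rw [e4, mul_inv_rev, xG_inv, xG_inv, e2, ← xG_mul hF k₃]
      group
    rcases hrk with rfl | rfl
    · obtain ⟨t, ht0, ht1⟩ : ∃ t : F, t ≠ 0 ∧ t ≠ 1 := by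
        obtain ⟨t, -, ht⟩ := Finset.exists_mem_notMem_of_card_lt_card (s := ({0, 1} : Finset F)) (t := Finset.univ)
          (by rw [Finset.card_univ]; have := Finset.card_le_two (a := (0 : F)) (b := 1); omega)
        simp only [Finset.mem_insert, Finset.mem_singleton, not_or] at ht
        exact ⟨t, ht.1, ht.2⟩
      have hne : t ^ 2 - t ≠ 0 := by
        rw [show t ^ 2 - t = t * (t - 1) by ring]; exact mul_ne_zero ht0 (sub_ne_zero.2 ht1)
      have h := (Subgroup.mul_mem_cancel_right _ (h3 _)).1 (hG t ((c₂ : F) * w / (t ^ 2 - t)))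
      rwa [div_mul_cancel₀ _ hne, ← mul_assoc, cast_unit hc₂, one_mul] at h
    · exact h3 w
  · simp at hshape

end Cfsg.Agent.WeakClosed
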