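import Mathlib.FieldTheory.Finite.Basic
import Mathlib.Algebra.Ring.Subring.Basic

/-!
Subgroups of `ι → F` stable under the characters `γ ↦ γ ^ A k i` of a torus.
-/

set_option autoImplicit false

namespace Cfsg.Agent.WeakClosed

universe u

variable {F : Type u} [Field F] [Fintype F]

theorem card_le_of_zpow_eq_one {n : ℤ} (hn : n ≠ 0) (h : ∀ γ : Fˣ, γ ^ n = 1) :
    Fintype.card F ≤ n.natAbs + 1 := by
  classical
  obtain ⟨g, hg⟩ := IsCyclic.exists_generator (α := Fˣ)
  have h1 : (orderOf g : ℤ) ∣ n := orderOf_dvd_iff_zpow_eq_one.2 (h g)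
  rw [orderOf_eq_card_of_forall_mem_zpowers hg, Nat.card_eq_fintype_card, Fintype.card_units,
    Int.natCast_dvd] at h1
  have := Nat.le_of_dvd (Int.natAbs_pos.2 hn) h1
  omega

theorem subring_eq_top (K : Subring F) (h : ∀ x : F, x ≠ 0 → x ^ 2 ∈ K) : K = ⊤ := by
  have hsq : ∀ x : F, x ^ 2 ∈ K := fun x => by
    by_cases hx : x = 0
    · simp [hx]
    · exact h x hx
  refine eq_top_iff.2 fun x _ => ?_
  by_cases h2 : (2 : F) = 0
  · haveI : CharP F 2 := CharTwo.of_one_ne_zero_of_two_eq_zero one_ne_zero h2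
    obtain ⟨y, rfl⟩ := (Finite.injective_iff_surjective.1 (frobenius_inj F 2)) x
    exact hsq y
  · have e : x = (x / 2 + 1) ^ 2 - (x / 2) ^ 2 - 1 := by
      field_simp
      ring
    rw [e]
    exact sub_mem (sub_mem (hsq _) (hsq _)) (one_mem K)

/-- the multipliers of `Y` -/
def multipliers {ι : Type*} (Y : AddSubgroup (ι → F)) : Subring (ι → F) where
  carrier := {e | ∀ y ∈ Y, e * y ∈ Y}
  mul_mem' {a b} ha hb y hy := by rw [mul_assoc]; exact ha _ (hb y hy)
  one_mem' y hy := by simpa using hy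
  add_mem' {a b} ha hb y hy := by rw [add_mul]; exact add_mem (ha y hy) (hb y hy)
  zero_mem' y _ := by simp
  neg_mem' {a} ha y hy := by rw [neg_mul]; exact neg_mem (ha y hy)

/-- the exponents separate `i` and `j` -/
def Sep {ι κ : Type*} (big : Prop) (s : ι → κ) (A : κ → ι → ℤ) (i j : ι) : Prop :=
  (∃ k, (A k j = 0 ∧ (A k i).natAbs = 1) ∨ (A k i = 0 ∧ (A k j).natAbs = 1) ∨
    (big ∧ ((A k j = 0 ∧ (A k i).natAbs = 2) ∨ (A k i = 0 ∧ (A k j).natAbs = 2)))) ∨
  (big ∧ (A (s i) j * A (s j) i = 2 ∨ A (s i) j * A (s j) i = 3))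

theorem eq_top_of_sep {ι κ : Type*} [Fintype ι] [DecidableEq ι] (Y : AddSubgroup (ι → F)) {big : Prop}
    (s : ι → κ) (A : κ → ι → ℤ) (hA : ∀ i, A (s i) i = 2)
    (hq : 3 ≤ Fintype.card F) (hbig : big → 4 ≤ Fintype.card F)
    (hmul : ∀ k (γ : Fˣ), ∀ y ∈ Y, (fun i => ((γ ^ A k i : Fˣ) : F)) * y ∈ Y)
    (hne : ∀ i, ∃ y ∈ Y, y i ≠ 0)
    (hsep : ∀ i j, i ≠ j → Sep big s A i j) : Y = ⊤ := by
  classical
  set R := multipliers Y with hR
  have hχ : ∀ k (γ : Fˣ), (fun i => ((γ ^ A k i : Fˣ) : F)) ∈ R := fun k γ => hmul k γ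
  have hproj : ∀ i (x : F), ∃ e ∈ R, e i = x := by
    intro i x
    have : R.map (Pi.evalRingHom (fun _ : ι => F) i) = ⊤ := by
      refine subring_eq_top _ fun y hy => ⟨_, hχ (s i) (Units.mk0 y hy), ?_⟩
      simp [hA]
    obtain ⟨e, he, rfl⟩ := this.ge (Subring.mem_top x)
    exact ⟨e, he, rfl⟩
  have hpair : ∀ i j, i ≠ j → ∃ e ∈ R, e i = 1 ∧ e j = 0 := by
    intro i j hij
    by_contra hno
    have hiff : ∀ e ∈ R, e i = 0 ↔ e j = 0 := by
      intro e he
      constructor <;> intro h <;> by_contra h'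
      · refine hno ⟨1 - e ^ (Fintype.card F - 1), sub_mem (one_mem _) (pow_mem he _), ?_, ?_⟩
        · simp [h, zero_pow (show Fintype.card F - 1 ≠ 0 by omega)]
        · simp [FiniteField.pow_card_sub_one_eq_one _ h']
      · refine hno ⟨e ^ (Fintype.card F - 1), pow_mem he _, ?_, ?_⟩
        · simp [FiniteField.pow_card_sub_one_eq_one _ h']
        · simp [h, zero_pow (show Fintype.card F - 1 ≠ 0 by omega)]
    have hR2 : ∀ k k' (γ δ : Fˣ), γ ^ A k i = δ ^ A k' i ↔ γ ^ A k j = δ ^ A k' j := by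
      intro k k' γ δ
      have := hiff _ (sub_mem (hχ k γ) (hχ k' δ))
      simp only [Pi.sub_apply, sub_eq_zero, Units.val_inj] at this
      exact this
    have hexp : ∀ k, A k i = 0 ∨ A k j = 0 → ∀ γ : Fˣ, γ ^ (A k i + A k j) = 1 := by
      intro k hk γ
      have := hR2 k k γ 1
      simp only [one_zpow] at this
      rcases hk with h | h <;> rw [h, zpow_zero] at this
      · rw [h, zero_add]; exact this.1 rfl
      · rw [h, add_zero]; exact this.2 rfl
    have hcard : ∀ n : ℤ, (∀ γ : Fˣ, γ ^ n = 1) → (n.natAbs = 1 ∨ (big ∧ n.natAbs = 2)) → False := by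
      intro n hn hc
      have h1 := card_le_of_zpow_eq_one (n := n) (by omega) hn
      rcases hc with hc | ⟨hb, hc⟩
      · omega
      · have := hbig hb
        omega
    rcases hsep i j hij with ⟨k, h⟩ | ⟨hb, h⟩
    · rcases h with ⟨h0, h1⟩ | ⟨h0, h1⟩ | ⟨hb, ⟨h0, h1⟩ | ⟨h0, h1⟩⟩
      · exact hcard _ (hexp k (Or.inr h0)) (Or.inl (by simpa [h0] using h1))
      · exact hcard _ (hexp k (Or.inl h0)) (Or.inl (by simpa [h0] using h1))
      · exact hcard _ (hexp k (Or.inr h0)) (Or.inr ⟨hb, by simpa [h0] using h1⟩)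
      · exact hcard _ (hexp k (Or.inl h0)) (Or.inr ⟨hb, by simpa [h0] using h1⟩)
    · set a := A (s i) j with ha
      set b := A (s j) i with hb'
      refine hcard (4 - a * b) (fun γ => ?_) ?_
      · have := (hR2 (s i) (s j) (γ ^ b) (γ ^ (2 : ℤ))).1 (by
          rw [← zpow_mul, ← zpow_mul, hA, ← hb', mul_comm])
        rw [← ha, ← zpow_mul, ← zpow_mul, hA] at this
        rw [zpow_sub, mul_comm a b, this]
        norm_num
      · rcases h with h | h <;> rw [h]
        · exact Or.inr ⟨hb, by norm_num⟩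
        · exact Or.inl (by norm_num)
  choose E hE hE1 hE0 using hpair
  have hdel : ∀ i, Pi.single i (1 : F) ∈ R := by
    intro i
    have e : Pi.single i (1 : F) = ∏ j : ι, if h : i ≠ j then E i j h else 1 := by
      funext l
      rw [Finset.prod_apply]
      by_cases hl : l = i
      · subst hl
        rw [Pi.single_eq_same, Finset.prod_eq_one fun j _ => ?_]
        split
        · exact hE1 _ _ _
        · rfl
      · rw [Pi.single_eq_of_ne hl, Finset.prod_eq_zero (Finset.mem_univ l)]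
        rw [dif_pos (Ne.symm hl)]
        exact hE0 _ _ _
    rw [e]
    refine Subring.prod_mem _ fun j _ => ?_
    split
    · exact hE _ _ _
    · exact one_mem _
  refine eq_top_iff.2 fun y _ => ?_
  rw [← Finset.univ_sum_single y]
  refine sum_mem fun i _ => ?_
  obtain ⟨z, hz, hzi⟩ := hne i
  obtain ⟨e, he, hei⟩ := hproj i (y i / z i)
  have := mul_mem (hdel i) he _ hz
  convert this using 1
  funext l
  by_cases hl : l = i
  · subst hl
    simp [hei, div_mul_cancel₀ _ hzi]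
  · simp [Pi.single_eq_of_ne hl]

end Cfsg.Agent.WeakClosed
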