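import Cfsg.Agent.Chev.All
import Cfsg.Agent.WeakClosed.Kernel
import Cfsg.Agent.WeakClosed.Separation
import Mathlib.GroupTheory.NoncommPiCoprod
import Mathlib.GroupTheory.QuotientGroup.Basic

/-!
A subgroup of `U` which is weakly closed in `U` is a unipotent radical.
-/

set_option autoImplicit false

namespace Cfsg.Agent.WeakClosed

open Cfsg.Lie Cfsg.Agent.Chev
open scoped MatrixGroups commutatorElement

universe u

variable {D : ChevalleyDatum} {F : Type u} [Field F] (hF : Facts.{u} D) (J : Set ℕ)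

include hF

theorem kerSub_le_other {i : ℕ} (hi : i < D.rank) :
    kerSub D F J ≤ Subgroup.closure (otherRoots hF i) := by
  refine Subgroup.commutator_le.2 fun a ha b hb => ?_
  obtain ⟨y, hy, s, rfl⟩ := exists_split_simple hF hi (radical_le_posUnipotent J ha)
  obtain ⟨y', hy', t, rfl⟩ := exists_split_simple hF hi hb
  set x : F → GL D.Idx F := fun v => xG hF (D.simple i) v with hx
  have hn : ∀ v, ∀ z ∈ Subgroup.closure (otherRoots hF i), x v * z * (x v)⁻¹ ∈
      Subgroup.closure (otherRoots hF i) := fun v z hz =>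
    (Subgroup.mem_normalizer_iff.1 (simple_mem_normalizer hF hi v).1 z).1 hz
  have hst : x s * x t = x t * x s := by rw [hx]; simp only [xG_mul, add_comm s t]
  have e : ⁅y * x s, y' * x t⁆ =
      y * (x s * y' * (x s)⁻¹) * (x t * y⁻¹ * (x t)⁻¹) * y'⁻¹ := by
    have e1 : x s * x t * (x s)⁻¹ = x t := by rw [hst, mul_inv_cancel_right]
    rw [commutatorElement_def]
    calc y * x s * (y' * x t) * (y * x s)⁻¹ * (y' * x t)⁻¹
        = y * (x s * y' * (x s)⁻¹) * (x s * x t * (x s)⁻¹) * y⁻¹ * (x t)⁻¹ * y'⁻¹ := by group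
      _ = _ := by rw [e1]; group
  rw [show ⁅y * xG hF (D.simple i) s, y' * xG hF (D.simple i) t⁆ = ⁅y * x s, y' * x t⁆ from rfl, e]
  exact mul_mem (mul_mem (mul_mem hy (hn _ _ hy')) (hn _ _ (inv_mem hy))) (inv_mem hy')

theorem isSimpleB_iff {r : ℕ} : isSimpleB D r = true ↔ ∃ i < D.rank, D.simple i = r := by
  simp [isSimpleB]

theorem radical_le_of_sup [Fintype F] {X : Subgroup (GL D.Idx F)}
    (hXn : D.posUnipotent F ≤ Subgroup.normalizer (X : Set (GL D.Idx F)))
    (h : D.unipotentRadical F J ≤ X ⊔ kerSub D F J) : D.unipotentRadical F J ≤ X := by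
  have key : ∀ k : ℕ, D.unipotentRadical F J ≤ X ⊔ (D.posUnipotent F ⊓ lowerGroup k) := by
    intro k
    induction k with
    | zero => exact fun g hg => Subgroup.mem_sup_right ⟨radical_le_posUnipotent J hg,
        lowerGroup_anti (Nat.zero_le 1) (posUnipotent_le_lowerGroup hF (radical_le_posUnipotent J hg))⟩
    | succ k ih =>
      refine le_trans h (sup_le le_sup_left (Subgroup.commutator_le.2 fun a ha b hb => ?_))
      have ha' := ih ha
      have hn : D.posUnipotent F ⊓ lowerGroup k ≤ Subgroup.normalizer (X : Set (GL D.Idx F)) :=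
        le_trans inf_le_left hXn
      rw [← SetLike.mem_coe, Subgroup.coe_mul_of_right_le_normalizer_left _ _ hn, Set.mem_mul] at ha'
      obtain ⟨x, hx, l, ⟨hlU, hl⟩, rfl⟩ := ha'
      have e : ⁅x * l, b⁆ = x * (b * l * b⁻¹ * l⁻¹)⁻¹ * x⁻¹ * (x * (b * x⁻¹ * b⁻¹)) := by
        rw [commutatorElement_def]; group
      rw [e]
      have h1 : b * l * b⁻¹ * l⁻¹ ∈ D.posUnipotent F ⊓ lowerGroup (k + 1) := Subgroup.mem_inf.2
        ⟨mul_mem (mul_mem (mul_mem hb hlU) (inv_mem hb)) (inv_mem hlU),
          comm_mem_lowerGroup (posUnipotent_le_lowerGroup hF hb) hl⟩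
      have h2 : x * (b * x⁻¹ * b⁻¹) ∈ X :=
        mul_mem hx ((Subgroup.mem_normalizer_iff.1 (hXn hb) _).1 (inv_mem hx))
      exact Subgroup.mul_mem _ (Subgroup.mul_mem _ (Subgroup.mul_mem _ (Subgroup.mem_sup_left hx)
        (Subgroup.inv_mem _ (Subgroup.mem_sup_right h1))) (Subgroup.inv_mem _ (Subgroup.mem_sup_left hx)))
        (Subgroup.mem_sup_left h2)
  intro g hg
  have hbot : D.posUnipotent F ⊓ lowerGroup (D.rank + D.nroots) = ⊥ :=
    eq_bot_iff.2 fun g hg => eq_one_of_mem_lowerGroup_top hF hg.2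
  simpa [hbot] using key (D.rank + D.nroots) hg

theorem exists_radical [Fintype F] {l : List (ℕ × ℕ × ℕ)} (hchk : radChk D l = true)
    {big : Bool} (hsep : sepChk D big = true) (hbig : big = true → 4 ≤ Fintype.card F)
    (hq : 3 ≤ Fintype.card F)
    (hq4 : (∃ r kind, (l.getD r (0, 0, 0)).1 = kind + 3) → 4 ≤ Fintype.card F)
    (X : Subgroup (GL D.Idx F)) (hXU : X ≤ D.posUnipotent F)
    (hwc : ∀ g ∈ D.group F, X.map (MulAut.conj g).toMonoidHom ≤ D.posUnipotent F →
      X.map (MulAut.conj g).toMonoidHom = X) :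
    ∃ J : Set ℕ, (∀ j ∈ J, j < D.rank) ∧ X = D.unipotentRadical F J := by
  classical
  have hnorm : ∀ g ∈ D.group F, (∀ x ∈ X, g * x * g⁻¹ ∈ D.posUnipotent F) →
      g ∈ Subgroup.normalizer (X : Set (GL D.Idx F)) := by
    intro g hg h
    have e := hwc g hg (by rintro _ ⟨x, hx, rfl⟩; exact h x hx)
    rw [Subgroup.mem_normalizer_iff]
    refine fun x => ⟨fun hx => e.le ⟨x, hx, rfl⟩, fun hx => ?_⟩
    obtain ⟨y, hy, he⟩ := e.ge hx
    simp only [MulEquiv.coe_toMonoidHom, MulAut.conj_apply] at he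
    rwa [← mul_left_cancel (mul_right_cancel he)]
  have hXn : D.posUnipotent F ≤ Subgroup.normalizer (X : Set (GL D.Idx F)) := fun g hg =>
    hnorm g (borel_le_group hF (Subgroup.mem_sup_left hg)) fun x hx =>
      mul_mem (mul_mem hg (hXU hx)) (inv_mem hg)
  have hXH : ∀ c, (torusHom c : GL D.Idx F) ∈ Subgroup.normalizer (X : Set (GL D.Idx F)) := fun c =>
    hnorm _ (borel_le_group hF (Subgroup.mem_sup_right (torusHom_mem hF c))) fun x hx =>
      (Subgroup.mem_normalizer_iff.1 (torusHom_mem_normalizer hF c) x).1 (hXU hx)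
  set J : Set ℕ := {j | j < D.rank ∧ (nS hF j : GL D.Idx F) ∈ Subgroup.normalizer (X : Set (GL D.Idx F))}
    with hJ
  refine ⟨J, fun j hj => hj.1, ?_⟩
  have hXJ : X ≤ D.unipotentRadical F J := by
    obtain ⟨π, hπ, hiff⟩ := exists_longest_J hF (idxSet D J)
    obtain ⟨w, hw, e⟩ := exists_pWord_J hF hπ
    have hmon := isMon_nWord hF w (F := F)
    rw [e] at hmon
    intro x hx
    rw [unipotentRadical_eq hF J hiff, mem_uPlus_iff hF hmon]
    refine ⟨hXU hx, hXU ((Subgroup.mem_normalizer_iff.1 ?_ x).1 hx)⟩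
    refine Subgroup.list_prod_mem _ fun g hg => ?_
    obtain ⟨i, hi, rfl⟩ := List.mem_map.1 hg
    exact ((mem_idxSet.1 (hw i hi)).2 :)
  refine le_antisymm hXJ (radical_le_of_sup hF J hXn ?_)
  set UJ := D.unipotentRadical F J with hUJ
  set K := kerSub D F J with hK
  have hKUJ : K ≤ UJ := kerSub_le_radical hF J
  have hKn : ∀ b ∈ D.posUnipotent F, ∀ k ∈ K, b * k * b⁻¹ ∈ K := fun b hb k hk =>
    conj_mem_kerSub hF J (Subgroup.le_normalizer hb) (posUnipotent_le_normalizer_radical hF J hb) hk
  have : (K.subgroupOf UJ).Normal := ⟨fun k hk g => hKn g (radical_le_posUnipotent J g.2) k hk⟩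
  set Q := UJ ⧸ K.subgroupOf UJ with hQ
  set mk : UJ →* Q := QuotientGroup.mk' _ with hmk
  have hmk1 : ∀ g : UJ, mk g = 1 ↔ (g : GL D.Idx F) ∈ K := fun g => by
    rw [hmk, QuotientGroup.mk'_apply, QuotientGroup.eq_one_iff, Subgroup.mem_subgroupOf]
  have hcomm : ∀ a b : UJ, Commute (mk a) (mk b) := by
    intro a b
    rw [commute_iff_eq, ← mul_inv_eq_one, mul_inv_rev, ← mul_assoc, ← map_mul, ← map_inv, ← map_inv,
      ← map_mul, ← map_mul, hmk1]
    have := Subgroup.commutator_mem_commutator a.2 (radical_le_posUnipotent J b.2)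
    rw [hK, kerSub, ← hUJ]
    simpa [commutatorElement_def] using this
  -- the fundamental roots outside `J`
  let ι := {i : Fin D.rank // (i : ℕ) ∉ J}
  have hInT : ∀ i : ι, InT D J (D.simple i.1) := fun i => ⟨i.1, i.1.2, i.2, by
    rw [hF.coef_simple _ i.1.2 _ i.1.2, if_pos rfl]; exact one_ne_zero⟩
  let xh : ι → (Multiplicative F →* Q) := fun i => mk.comp ((xHom hF (D.simple i.1)).codRestrict UJ
    fun t => radical_root_mem hF J (hF.simple_lt _ i.1.2) (hF.simple_pos _ i.1.2) (hInT i) t.toAdd)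
  let φ : (ι → Multiplicative F) →* Q := MonoidHom.noncommPiCoprod xh fun i j _ a b => hcomm _ _
  have hφ : ∀ (i : ι) (t : F), φ (Pi.mulSingle i (Multiplicative.ofAdd t)) =
      mk ⟨xG hF (D.simple i.1) t,
        radical_root_mem hF J (hF.simple_lt _ i.1.2) (hF.simple_pos _ i.1.2) (hInT i) t⟩ := fun i t => by
    exact (MonoidHom.noncommPiCoprod_mulSingle (ϕ := xh) i (Multiplicative.ofAdd t)).trans rfl
  have hsurj : ∀ g : UJ, mk g ∈ φ.range := by
    rintro ⟨g, hg⟩
    induction hg using Subgroup.closure_induction with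
    | mem x hx =>
      obtain ⟨r, t, hr, hn, e⟩ := hx
      obtain rfl : x = xG hF r t := Units.ext e
      have hT := inT_of_not_inRootSub hr.1 hn
      have hp := (hF.posRoot_iff r hr.1).1 hr
      by_cases hs : isSimpleB D r = true
      · obtain ⟨i, hi, rfl⟩ := (isSimpleB_iff hF).1 hs
        have hiJ : i ∉ J := fun hiJ => hn ⟨hr.1, fun j hj hjJ => by
          show coef D (D.simple i) j = 0
          rw [hF.coef_simple i hi j hj, if_neg]; rintro rfl; exact hjJ hiJ⟩
        exact ⟨_, hφ ⟨⟨i, hi⟩, hiJ⟩ t⟩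
      · refine ⟨1, ?_⟩
        rw [map_one, eq_comm, hmk1]
        exact root_mem_kerSub hF J hchk hq hq4 r hr.1 hp hT (by simpa using hs) t
    | one => exact one_mem φ.range
    | mul a b ha hb iha ihb =>
      have := mul_mem iha ihb
      rwa [← map_mul] at this
    | inv a ha iha =>
      have := inv_mem iha
      rwa [← map_inv] at this
  set Xq : Subgroup Q := (X.subgroupOf UJ).map mk with hXq
  let Y : AddSubgroup (ι → F) :=
    { carrier := {y | φ (fun i => Multiplicative.ofAdd (y i)) ∈ Xq}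
      zero_mem' := by
        show φ (fun _ : ι => (1 : Multiplicative F)) ∈ Xq
        rw [show (fun _ : ι => (1 : Multiplicative F)) = 1 from rfl, map_one]; exact one_mem _
      add_mem' := fun {a b} ha hb => by
        show φ ((fun i => Multiplicative.ofAdd (a i)) * fun i => Multiplicative.ofAdd (b i)) ∈ Xq
        rw [map_mul]; exact mul_mem ha hb
      neg_mem' := fun {a} ha => by
        show φ (fun i => Multiplicative.ofAdd (a i))⁻¹ ∈ Xq
        rw [map_inv]; exact inv_mem ha }
  have hY : Y = ⊤ := by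
    refine eq_top_of_sep (κ := Fin D.rank) Y (big := big = true) (fun i => i.1)
      (fun k i => D.cartan k (D.simple i.1)) (fun i => hF.cartan_self _ i.1.2) hq hbig ?_ ?_ ?_
    · intro k γ y hy
      set h : GL D.Idx F := torusHom (Pi.mulSingle k γ) with hh
      have hhN : h ∈ Subgroup.normalizer (UJ : Set (GL D.Idx F)) := parabolic_le_normalizer hF J
        (borel_le_parabolic J (Subgroup.mem_sup_right (torusHom_mem hF _)))
      let cj : UJ →* UJ := ((MulAut.conj h).toMonoidHom.comp UJ.subtype).codRestrict UJ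
        fun g => (Subgroup.mem_normalizer_iff.1 hhN g).1 g.2
      have hσ : K.subgroupOf UJ ≤ MonoidHom.ker (mk.comp cj) := by
        intro g hg
        rw [MonoidHom.mem_ker, MonoidHom.comp_apply, hmk1]
        exact conj_mem_kerSub hF J (torusHom_mem_normalizer hF _) hhN hg
      let σ : Q →* Q := QuotientGroup.lift _ (mk.comp cj) hσ
      let ν : (ι → Multiplicative F) →* (ι → Multiplicative F) :=
        { toFun := fun z i => Multiplicative.ofAdd (((γ ^ D.cartan k (D.simple i.1) : Fˣ) : F) * (z i).toAdd)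
          map_one' := by funext i; simp
          map_mul' := fun a b => by funext i; simp [mul_add] }
      have hcomp : σ.comp φ = φ.comp ν := by
        refine MonoidHom.ext fun z => ?_
        refine Subgroup.pi_mem_of_mulSingle_mem (H := MonoidHom.eqLocus (σ.comp φ) (φ.comp ν)) z fun i => ?_
        show (σ.comp φ) _ = (φ.comp ν) _
        generalize z i = t
        obtain ⟨t, rfl⟩ := Multiplicative.ofAdd.surjective t
        have hν : ν (Pi.mulSingle i (Multiplicative.ofAdd t)) = Pi.mulSingle i (Multiplicative.ofAdd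
            (((γ ^ D.cartan k (D.simple i.1) : Fˣ) : F) * t)) := by
          funext j
          by_cases hj : j = i
          · subst hj; simp [ν]
          · simp [ν, Pi.mulSingle_eq_of_ne hj]
        rw [MonoidHom.comp_apply, MonoidHom.comp_apply, hν, hφ, hφ]
        show mk (cj _) = mk _
        refine congrArg mk (Subtype.ext ?_)
        show h * xG hF (D.simple i.1) t * h⁻¹ = _
        rw [hh, torusHom_conj hF _ (hF.simple_lt _ i.1.2), mul_inv_cancel_right,
          chiU_mulSingle k.2]
      obtain ⟨x, hx, e⟩ := hy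
      show φ (ν fun i => Multiplicative.ofAdd (y i)) ∈ Xq
      rw [← MonoidHom.comp_apply, ← hcomp, MonoidHom.comp_apply, ← e]
      exact ⟨cj x, (Subgroup.mem_normalizer_iff.1 (hXH _) x.1).1 hx, rfl⟩
    · intro i
      by_contra hno
      simp only [not_exists, not_and, not_not] at hno
      have hi := i.1.2
      set O := (Subgroup.closure (otherRoots hF (i.1 : ℕ) (F := F))).subgroupOf UJ with hO
      have hOi : ∀ x ∈ X, x ∈ Subgroup.closure (otherRoots hF (i.1 : ℕ) (F := F)) := by
        intro x hx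
        obtain ⟨z, hz⟩ := hsurj ⟨x, hXJ hx⟩
        have hz0 : (z i).toAdd = 0 := hno (fun j => (z j).toAdd) ⟨⟨x, hXJ hx⟩, hx, hz.symm⟩
        have hzO : φ z ∈ O.map mk := by
          refine Subgroup.pi_mem_of_mulSingle_mem (H := (O.map mk).comap φ) z fun j => ?_
          rw [Subgroup.mem_comap]
          obtain ⟨t, ht⟩ : ∃ t, Multiplicative.ofAdd t = z j := ⟨_, rfl⟩
          rw [← ht, hφ]
          refine Subgroup.mem_map_of_mem _ (Subgroup.mem_subgroupOf.2 ?_)
          by_cases hji : j = i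
          · subst hji
            rw [← ht] at hz0
            change t = 0 at hz0
            simp only [hz0, xG_zero]
            exact one_mem _
          · refine Subgroup.subset_closure ⟨_, t, hF.simple_lt _ j.1.2, hF.simple_pos _ j.1.2, fun e => ?_, rfl⟩
            refine hji (Subtype.ext (Fin.ext ?_))
            have := hF.coef_simple _ j.1.2 _ hi
            rw [e, hF.coef_simple _ hi _ hi, if_pos rfl] at this
            by_contra hne
            rw [if_neg (Ne.symm hne)] at this
            exact one_ne_zero this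
        rw [hz] at hzO
        obtain ⟨o, ho, e⟩ := hzO
        have := (hmk1 (o⁻¹ * ⟨x, hXJ hx⟩)).1 (by rw [map_mul, map_inv, e, inv_mul_cancel])
        have := mul_mem (Subgroup.mem_subgroupOf.1 ho) (kerSub_le_other hF J hi this)
        simpa using this
      exact i.2 ⟨hi, hnorm _ (nG_mem_group hF _ _) fun x hx =>
        otherRoots_le hF _ (nS_conj_other hF hi (hOi x hx))⟩
    · intro i j hij
      have hne : (i.1 : ℕ) ≠ j.1 := fun e => hij (Subtype.ext (Fin.ext e))
      simp only [sepChk, List.all_eq_true, List.mem_range, Bool.or_eq_true, decide_eq_true_eq] at hsep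
      have := (hsep _ i.1.2 _ j.1.2).resolve_left hne
      simp only [pairSep, Bool.or_eq_true, Bool.and_eq_true, List.any_eq_true, List.mem_range,
        decide_eq_true_eq] at this
      rcases this with ⟨k, hk, h⟩ | h
      · refine Or.inl ⟨⟨k, hk⟩, ?_⟩
        rcases h with (h | h) | h
        exacts [Or.inl h, Or.inr (Or.inl h), Or.inr (Or.inr h)]
      · exact Or.inr h
  intro g hg
  obtain ⟨z, hz⟩ := hsurj ⟨g, hg⟩
  have hmem : (fun i => (z i).toAdd) ∈ Y := hY ▸ AddSubgroup.mem_top _
  change φ z ∈ Xq at hmem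
  rw [hz] at hmem
  obtain ⟨x, hx, e⟩ := hmem
  have := (hmk1 (x⁻¹ * ⟨g, hg⟩)).1 (by rw [map_mul, map_inv, e, inv_mul_cancel])
  have := mul_mem (Subgroup.mem_sup_left (T := K) (Subgroup.mem_subgroupOf.1 hx)) (Subgroup.mem_sup_right this)
  simpa using this

end Cfsg.Agent.WeakClosed
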